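import Mathlib

/-!
# Traces on a product of two conjugacy classes of `SL_d`

For non-scalar `A, B ∈ SL_d(F)` with `d ≥ 3` the trace of `A (g B g⁻¹)` takes both zero and
non-zero values as `g` runs over `SL_d(F)`.
-/

set_option autoImplicit false

namespace CfsgLib.TraceClass

open Matrix

variable {F : Type*} [Field F] {d : ℕ}

local notation "SL" => Matrix.SpecialLinearGroup (Fin d) F

/-- A column taking a prescribed value at a row outside a subspace and killing the subspace. -/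
theorem exists_col (W : Submodule F (Fin d → F)) {u : Fin d → F} (hu : u ∉ W) :
    ∃ q : Fin d → F, (∀ v ∈ W, v ⬝ᵥ q = 0) ∧ u ⬝ᵥ q = 1 := by
  obtain ⟨φ, hφu, hφW⟩ := Submodule.exists_dual_map_eq_bot_of_notMem hu inferInstance
  refine ⟨fun i => (φ u)⁻¹ * φ (Pi.single i 1), ?_⟩
  have h : ∀ v : Fin d → F, v ⬝ᵥ (fun i => (φ u)⁻¹ * φ (Pi.single i 1)) = (φ u)⁻¹ * φ v := by
    intro v
    conv_rhs => rw [pi_eq_sum_univ' v, map_sum, Finset.mul_sum]
    exact Finset.sum_congr rfl fun i _ => by rw [map_smul, smul_eq_mul]; ring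
  refine ⟨fun v hv => ?_, by rw [h, inv_mul_cancel₀ hφu]⟩
  have : φ v ∈ W.map φ := ⟨v, hv, rfl⟩
  rw [hφW, Submodule.mem_bot] at this
  rw [h, this, mul_zero]

/-- The transvection `1 + q r`. -/
noncomputable def tv (q r : Fin d → F) (h : r ⬝ᵥ q = 0) : SL :=
  ⟨1 + vecMulVec q r, by
    rw [vecMulVec_eq Unit, det_one_add_replicateCol_mul_replicateRow, h, add_zero]⟩

theorem tv_apply (q r v : Fin d → F) (h : r ⬝ᵥ q = 0) :
    v ᵥ* (tv q r h : SL).1 = v + (v ⬝ᵥ q) • r := by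
  show v ᵥ* (1 + vecMulVec q r) = _
  rw [vecMul_add, vecMul_one, vecMul_vecMulVec]

theorem tv_inv (q r : Fin d → F) (h : r ⬝ᵥ q = 0) :
    (tv q r h : SL)⁻¹.1 = 1 - vecMulVec q r := by
  have : (tv q r h : SL)⁻¹ = tv (-q) r (by simp [h]) := by
    refine inv_eq_of_mul_eq_one_right (Subtype.ext ?_)
    show (1 + vecMulVec q r) * (1 + vecMulVec (-q) r) = 1
    rw [neg_vecMulVec, mul_add, mul_one, mul_neg, add_mul, one_mul, vecMulVec_mul_vecMulVec, h]
    simp
  rw [this]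
  show 1 + vecMulVec (-q) r = _
  rw [neg_vecMulVec, sub_eq_add_neg]

theorem tv_inv_apply (q r v : Fin d → F) (h : r ⬝ᵥ q = 0) :
    v ᵥ* (tv q r h : SL)⁻¹.1 = v - (v ⬝ᵥ q) • r := by
  rw [tv_inv, vecMul_sub, vecMul_one, vecMul_vecMulVec]

/-- An element moving one independent pair of rows to another. -/
theorem exists_move (hd : 3 ≤ d) {a b a' b' : Fin d → F} (h : LinearIndependent F ![a, b])
    (h' : LinearIndependent F ![a', b']) : ∃ g : SL, a ᵥ* g.1 = a' ∧ b ᵥ* g.1 = b' := by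
  classical
  have key : ∀ {x y : Fin d → F}, LinearIndependent F ![x, y] →
      ∃ P : Matrix (Fin d) (Fin d) F, P.det ≠ 0 ∧ P ⟨0, by omega⟩ = x ∧ P ⟨1, by omega⟩ = y := by
    intro x y hxy
    have hs := hxy.linearIndepOn_id
    let b := Module.Basis.extend hs
    have hfin : Fintype (hs.extend (Set.subset_univ _)) := FiniteDimensional.fintypeBasisIndex b
    have hcard : Fintype.card (hs.extend (Set.subset_univ _)) = d := by
      rw [← Module.finrank_eq_card_basis b, Module.finrank_fin_fun]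
    let e := Fintype.equivFinOfCardEq hcard
    have hx : x ∈ hs.extend (Set.subset_univ _) :=
      Module.Basis.subset_extend hs ⟨0, rfl⟩
    have hy : y ∈ hs.extend (Set.subset_univ _) :=
      Module.Basis.subset_extend hs ⟨1, rfl⟩
    have hne : e ⟨x, hx⟩ ≠ e ⟨y, hy⟩ := fun hh => by
      have h01 := congrArg Subtype.val (e.injective hh)
      have := hxy.injective (a₁ := (0 : Fin 2)) (a₂ := 1) (by simpa using h01)
      exact absurd this (by decide)
    obtain ⟨σ, hσ0, hσ1⟩ : ∃ σ : Equiv.Perm (Fin d),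
        σ (e ⟨x, hx⟩) = ⟨0, by omega⟩ ∧ σ (e ⟨y, hy⟩) = ⟨1, by omega⟩ := by
      set l := e ⟨x, hx⟩
      set k := e ⟨y, hy⟩
      refine ⟨(Equiv.swap l ⟨0, by omega⟩).trans
        (Equiv.swap (Equiv.swap l ⟨0, by omega⟩ k) ⟨1, by omega⟩), ?_, by simp⟩
      simp only [Equiv.trans_apply, Equiv.swap_apply_left]
      refine Equiv.swap_apply_of_ne_of_ne ?_ (by simp [Fin.ext_iff])
      intro h
      exact hne ((Equiv.swap l ⟨0, by omega⟩).injective (by rw [Equiv.swap_apply_left]; exact h))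
    let bb := b.reindex (e.trans σ)
    refine ⟨fun i => bb i, ?_, ?_, ?_⟩
    · intro hdet
      obtain ⟨v, hv0, hv⟩ := exists_vecMul_eq_zero_iff.mpr hdet
      have hli := Fintype.linearIndependent_iff.mp bb.linearIndependent v (by
        funext j; simpa [vecMul, dotProduct] using congrFun hv j)
      exact hv0 (funext hli)
    · show bb _ = x
      rw [← hσ0, Module.Basis.reindex_apply]
      simp [b, Module.Basis.extend_apply_self]
    · show bb _ = y
      rw [← hσ1, Module.Basis.reindex_apply]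
      simp [b, Module.Basis.extend_apply_self]
  obtain ⟨P, hP, hP0, hP1⟩ := key h
  obtain ⟨Q, hQ, hQ0, hQ1⟩ := key h'
  set c := P.det / Q.det with hc
  set Q' := Q.updateRow ⟨2, by omega⟩ (c • Q ⟨2, by omega⟩) with hQ'
  have hQ'det : Q'.det = P.det := by
    rw [hQ', det_updateRow_smul, updateRow_eq_self, hc]
    field_simp
  have hu : IsUnit P.det := isUnit_iff_ne_zero.mpr hP
  refine ⟨⟨P⁻¹ * Q', by rw [det_mul, hQ'det, det_nonsing_inv, Ring.inverse_mul_cancel _ hu]⟩, ?_, ?_⟩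
  · show a ᵥ* (P⁻¹ * Q') = a'
    have : (P * (P⁻¹ * Q')) ⟨0, by omega⟩ = a ᵥ* (P⁻¹ * Q') := by rw [← hP0]; rfl
    rw [← this, ← Matrix.mul_assoc, mul_nonsing_inv _ hu, Matrix.one_mul, hQ',
      updateRow_ne (by simp [Fin.ext_iff]), hQ0]
  · show b ᵥ* (P⁻¹ * Q') = b'
    have : (P * (P⁻¹ * Q')) ⟨1, by omega⟩ = b ᵥ* (P⁻¹ * Q') := by rw [← hP1]; rfl
    rw [← this, ← Matrix.mul_assoc, mul_nonsing_inv _ hu, Matrix.one_mul, hQ',
      updateRow_ne (by simp [Fin.ext_iff]), hQ1]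

/-- Non-scalar. -/
def NS (A : Matrix (Fin d) (Fin d) F) : Prop := ¬ ∃ c : F, A = c • (1 : Matrix (Fin d) (Fin d) F)

/-- Every row spans with its image an invariant subspace. -/
def Quad (A : Matrix (Fin d) (Fin d) F) : Prop :=
  ∀ v : Fin d → F, (v ᵥ* A) ᵥ* A ∈ Submodule.span F ({v, v ᵥ* A} : Set (Fin d → F))

theorem exists_indep {A : Matrix (Fin d) (Fin d) F} (hA : NS A) :
    ∃ v : Fin d → F, LinearIndependent F ![v, v ᵥ* A] := by
  classical
  by_contra hh
  push Not at hh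
  have hev : ∀ v : Fin d → F, ∃ c : F, v ᵥ* A = c • v := by
    intro v
    by_cases hv : v = 0
    · exact ⟨0, by simp [hv]⟩
    have := hh v
    rw [LinearIndependent.pair_iff' hv] at this
    push Not at this
    obtain ⟨c, hc⟩ := this
    exact ⟨c, hc.symm⟩
  rcases Nat.eq_zero_or_pos d with rfl | hpos
  · exact hA ⟨0, Subsingleton.elim _ _⟩
  let i₀ : Fin d := ⟨0, hpos⟩
  choose c hc using fun i => hev (Pi.single i 1)
  refine hA ⟨c i₀, Matrix.ext fun i j => ?_⟩
  have hrow : ∀ i j, A i j = if j = i then c i else 0 := by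
    intro i j
    have := congrFun (hc i) j
    simpa [Pi.single_apply] using this
  have hci : c i = c i₀ := by
    by_cases hi : i = i₀
    · rw [hi]
    obtain ⟨t, ht⟩ := hev (Pi.single i 1 + Pi.single i₀ 1)
    rw [add_vecMul, hc, hc] at ht
    have h1 := congrFun ht i
    have h2 := congrFun ht i₀
    simp [Pi.single_apply, hi, Ne.symm hi] at h1 h2
    rw [h1, h2]
  rw [hrow, Matrix.smul_apply, Matrix.one_apply, smul_eq_mul, mul_ite, mul_one, mul_zero]
  by_cases h : i = j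
  · rw [if_pos h.symm, if_pos h, hci]
  · rw [if_neg (Ne.symm h), if_neg h]

/-- From a row with `f (B A - A B)` outside `span (f, f B)` we get the two values. -/
theorem values_of_witness (A B : SL) (g₀ : SL) (f : Fin d → F)
    (h : (f ᵥ* (g₀ * B * g₀⁻¹).1) ᵥ* A.1 - (f ᵥ* A.1) ᵥ* (g₀ * B * g₀⁻¹).1 ∉
      Submodule.span F ({f, f ᵥ* (g₀ * B * g₀⁻¹).1} : Set (Fin d → F))) :
    ∃ g₁ g₂ : SL, (A * (g₁ * B * g₁⁻¹)).1.trace = 0 ∧ (A * (g₂ * B * g₂⁻¹)).1.trace ≠ 0 := by
  set B' := g₀ * B * g₀⁻¹ with hB'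
  obtain ⟨x, hx, hx1⟩ := exists_col _ h
  have hfx : f ⬝ᵥ x = 0 := hx f (Submodule.subset_span (by simp))
  have hfBx : (f ᵥ* B'.1) ⬝ᵥ x = 0 := hx _ (Submodule.subset_span (by simp))
  have hval : ∀ s : F, (A * (tv (s • x) f (by simp [hfx]) * B' *
      (tv (s • x) f (by simp [hfx]))⁻¹)).1.trace = (A.1 * B'.1).trace + s := by
    intro s
    rw [Matrix.SpecialLinearGroup.coe_mul, Matrix.SpecialLinearGroup.coe_mul,
      Matrix.SpecialLinearGroup.coe_mul, tv_inv]
    show (A.1 * ((1 + vecMulVec (s • x) f) * B'.1 * (1 - vecMulVec (s • x) f))).trace = _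
    have hX : vecMulVec (s • x) f * B'.1 * vecMulVec (s • x) f = 0 := by
      rw [vecMulVec_mul, vecMulVec_mul_vecMulVec, dotProduct_smul, hfBx, smul_zero]
      simp
    rw [show (1 + vecMulVec (s • x) f) * B'.1 * (1 - vecMulVec (s • x) f) =
        B'.1 + vecMulVec (s • x) f * B'.1 - B'.1 * vecMulVec (s • x) f -
          vecMulVec (s • x) f * B'.1 * vecMulVec (s • x) f by noncomm_ring, hX, sub_zero, mul_sub,
      mul_add, trace_sub, trace_add, vecMulVec_mul, mul_vecMulVec, mul_vecMulVec, mul_vecMulVec,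
      trace_vecMulVec, trace_vecMulVec]
    have e1 : (A.1 *ᵥ (s • x)) ⬝ᵥ (f ᵥ* B'.1) = s * (((f ᵥ* B'.1) ᵥ* A.1) ⬝ᵥ x) := by
      rw [mulVec_smul, smul_dotProduct, smul_eq_mul, dotProduct_comm, dotProduct_mulVec]
    have e2 : ((A.1 *ᵥ B'.1 *ᵥ (s • x))) ⬝ᵥ f = s * (((f ᵥ* A.1) ᵥ* B'.1) ⬝ᵥ x) := by
      rw [mulVec_smul, mulVec_smul, smul_dotProduct, smul_eq_mul, dotProduct_comm, dotProduct_mulVec,
        dotProduct_mulVec]
    rw [sub_dotProduct] at hx1
    rw [e1, e2]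
    linear_combination s * hx1
  have hfix : ∀ T : SL, T * B' * T⁻¹ = (T * g₀) * B * (T * g₀)⁻¹ := fun T => by rw [hB']; group
  set t := (A.1 * B'.1).trace
  refine ⟨tv ((-t) • x) f (by simp [hfx]) * g₀, tv ((1 - t) • x) f (by simp [hfx]) * g₀, ?_, ?_⟩
  · rw [← hfix, hval]; ring
  · rw [← hfix, hval]; simp

theorem values_of_not_quad (hd : 3 ≤ d) (A B : SL) (hA : NS A.1) (hB : ¬ Quad B.1) :
    ∃ g₁ g₂ : SL, (A * (g₁ * B * g₁⁻¹)).1.trace = 0 ∧ (A * (g₂ * B * g₂⁻¹)).1.trace ≠ 0 := by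
  obtain ⟨e, he⟩ := not_forall.mp hB
  have hei : LinearIndependent F ![e, e ᵥ* B.1] := by
    have he0 : e ≠ 0 := fun h => he (by simp [h])
    rw [LinearIndependent.pair_iff' he0]
    intro c hc
    refine he ?_
    rw [← hc, smul_vecMul, ← hc]
    exact Submodule.smul_mem _ _ (Submodule.smul_mem _ _ (Submodule.subset_span (by simp)))
  obtain ⟨f, hf⟩ := exists_indep hA
  set y := f ᵥ* A.1 with hy
  obtain ⟨z, hz⟩ : ∃ z, z ∉ Submodule.span F (Set.range ![f, y]) := by
    by_contra hh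
    push Not at hh
    have htop : Submodule.span F (Set.range ![f, y]) = ⊤ := eq_top_iff.mpr fun v _ => hh v
    have := finrank_span_eq_card hf
    rw [htop, finrank_top, Module.finrank_fin_fun, Fintype.card_fin] at this
    omega
  rw [Matrix.range_cons_cons_empty] at hz
  have hf0 : f ≠ 0 := by simpa using hf.ne_zero 0
  have hfz : LinearIndependent F ![f, z] := by
    rw [LinearIndependent.pair_iff' hf0]
    intro c hc
    exact hz (hc ▸ Submodule.smul_mem _ _ (Submodule.subset_span (by simp)))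
  obtain ⟨g, hge, hgz⟩ := exists_move hd hfz hei
  set B' := g * B * g⁻¹ with hB'
  have hcanc : ∀ v : Fin d → F, (v ᵥ* g.1) ᵥ* g⁻¹.1 = v := fun v => by
    rw [vecMul_vecMul, ← Matrix.SpecialLinearGroup.coe_mul, mul_inv_cancel,
      Matrix.SpecialLinearGroup.coe_one, vecMul_one]
  have hu : f ᵥ* B'.1 = z := by
    rw [hB', Matrix.SpecialLinearGroup.coe_mul, Matrix.SpecialLinearGroup.coe_mul, ← vecMul_vecMul,
      ← vecMul_vecMul, hge, ← hgz, hcanc]
  set P := Submodule.span F ({f, z} : Set (Fin d → F)) with hP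
  have huB : z ᵥ* B'.1 ∉ P := by
    intro hmem
    obtain ⟨a, b, hab⟩ := Submodule.mem_span_pair.mp hmem
    apply he
    refine Submodule.mem_span_pair.mpr ⟨a, b, ?_⟩
    have := congrArg (fun v => v ᵥ* g.1) hab
    simp only [hB', add_vecMul, smul_vecMul, hge, hgz] at this
    rw [this, vecMul_vecMul, ← Matrix.SpecialLinearGroup.coe_mul,
      show g * B * g⁻¹ * g = g * B by group, Matrix.SpecialLinearGroup.coe_mul, ← vecMul_vecMul, hgz]
  by_cases h1 : (f ᵥ* B'.1) ᵥ* A.1 - y ᵥ* B'.1 ∈ P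
  swap
  · refine values_of_witness A B g f ?_
    show (f ᵥ* B'.1) ᵥ* A.1 - y ᵥ* B'.1 ∉ Submodule.span F ({f, f ᵥ* B'.1} : Set (Fin d → F))
    rw [hu] at h1 ⊢
    exact h1
  -- move `y` by `z`
  have hyP : y ∉ P := by
    intro h
    obtain ⟨a, b, hab⟩ := Submodule.mem_span_pair.mp h
    by_cases hb : b = 0
    · have := (LinearIndependent.pair_iff' hf0).mp hf a
      exact this (by simpa [hb] using hab)
    · refine hz ?_
      have : z = b⁻¹ • (y - a • f) := by rw [← hab]; simp [inv_smul_smul₀ hb]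
      rw [this]
      exact Submodule.smul_mem _ _ (Submodule.sub_mem _ (Submodule.subset_span (by simp))
        (Submodule.smul_mem _ _ (Submodule.subset_span (by simp))))
  obtain ⟨q, hq, hq1⟩ := exists_col P hyP
  have hzq : z ⬝ᵥ q = 0 := hq z (Submodule.subset_span (by simp))
  have hfq : f ⬝ᵥ q = 0 := hq f (Submodule.subset_span (by simp))
  set T := tv q z hzq with hT
  refine values_of_witness A B (T * g) f ?_
  have hB'' : (T * g * B * (T * g)⁻¹).1 = T.1 * B'.1 * T⁻¹.1 := by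
    rw [show T * g * B * (T * g)⁻¹ = T * B' * T⁻¹ by rw [hB']; group]
    simp only [Matrix.SpecialLinearGroup.coe_mul]
  rw [hB'']
  simp only [← vecMul_vecMul]
  rw [hT, tv_apply, hfq, zero_smul, add_zero, hu, tv_inv_apply, hzq, zero_smul, sub_zero,
    tv_apply, hq1, one_smul, add_vecMul, tv_inv_apply, ← hP]
  intro hmem
  refine huB ?_
  have h2 := P.sub_mem h1 hmem
  rw [hu] at h2
  have h3 : z ∈ P := Submodule.subset_span (by simp)
  convert P.add_mem h2 (P.smul_mem ((y ᵥ* B'.1 + z ᵥ* B'.1) ⬝ᵥ q) h3) using 1 <;>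
    first | module | rfl

theorem values_of_quad (hd : 3 ≤ d) (A B : SL) (hA : NS A.1) (hB : NS B.1) (hq : Quad A.1) :
    ∃ g₁ g₂ : SL, (A * (g₁ * B * g₁⁻¹)).1.trace = 0 ∧ (A * (g₂ * B * g₂⁻¹)).1.trace ≠ 0 := by
  obtain ⟨f, hf⟩ := exists_indep hA
  obtain ⟨e, hei⟩ := exists_indep hB
  have hf0 : f ≠ 0 := by simpa using hf.ne_zero 0
  set y := f ᵥ* A.1 with hy
  obtain ⟨a, c₀, hyA⟩ := Submodule.mem_span_pair.mp (hq f)
  rw [← hy] at hyA
  set P₀ := Submodule.span F ({f, y} : Set (Fin d → F)) with hP₀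
  obtain ⟨u, hu⟩ : ∃ u, u ∉ P₀ := by
    by_contra hh
    push Not at hh
    have htop : P₀ = ⊤ := eq_top_iff.mpr fun v _ => hh v
    have := finrank_span_eq_card hf
    rw [Matrix.range_cons_cons_empty, ← hP₀, htop, finrank_top, Module.finrank_fin_fun,
      Fintype.card_fin] at this
    omega
  have hfu : LinearIndependent F ![f, u] := by
    rw [LinearIndependent.pair_iff' hf0]
    intro c hc
    exact hu (hc ▸ Submodule.smul_mem _ _ (Submodule.subset_span (by simp)))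
  obtain ⟨g, hge, hgz⟩ := exists_move hd hfu hei
  set B' := g * B * g⁻¹ with hB'
  have hcanc : ∀ v : Fin d → F, (v ᵥ* g.1) ᵥ* g⁻¹.1 = v := fun v => by
    rw [vecMul_vecMul, ← Matrix.SpecialLinearGroup.coe_mul, mul_inv_cancel,
      Matrix.SpecialLinearGroup.coe_one, vecMul_one]
  have hu' : f ᵥ* B'.1 = u := by
    rw [hB', Matrix.SpecialLinearGroup.coe_mul, Matrix.SpecialLinearGroup.coe_mul, ← vecMul_vecMul,
      ← vecMul_vecMul, hge, ← hgz, hcanc]
  set P := Submodule.span F ({f, u} : Set (Fin d → F)) with hP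
  by_cases h1 : (f ᵥ* B'.1) ᵥ* A.1 - y ᵥ* B'.1 ∈ P
  swap
  · refine values_of_witness A B g f ?_
    show (f ᵥ* B'.1) ᵥ* A.1 - y ᵥ* B'.1 ∉ Submodule.span F ({f, f ᵥ* B'.1} : Set (Fin d → F))
    rw [hu'] at h1 ⊢
    exact h1
  rw [hu'] at h1
  by_contra hcon
  have hyP : y ∉ P := by
    intro h
    obtain ⟨s, t, hst⟩ := Submodule.mem_span_pair.mp h
    by_cases ht : t = 0
    · exact (LinearIndependent.pair_iff' hf0).mp hf s (by simpa [ht] using hst)
    · refine hu ?_
      have : u = t⁻¹ • (y - s • f) := by rw [← hst]; simp [inv_smul_smul₀ ht]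
      rw [this]
      exact Submodule.smul_mem _ _ (Submodule.sub_mem _ (Submodule.subset_span (by simp))
        (Submodule.smul_mem _ _ (Submodule.subset_span (by simp))))
  -- every admissible column gives the value `c₀`
  have key : ∀ p : Fin d → F, f ⬝ᵥ p = 0 → y ⬝ᵥ p = 0 → u ⬝ᵥ p = 1 → (u ᵥ* A.1) ⬝ᵥ p = c₀ := by
    intro p hfp hyp hup
    by_contra hne
    set T := tv (-p) y (by simp [hyp]) with hT
    refine hcon (values_of_witness A B (T * g) f ?_)
    have hB'' : (T * g * B * (T * g)⁻¹).1 = T.1 * B'.1 * T⁻¹.1 := by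
      rw [show T * g * B * (T * g)⁻¹ = T * B' * T⁻¹ by rw [hB']; group]
      simp only [Matrix.SpecialLinearGroup.coe_mul]
    rw [hB'']
    simp only [← vecMul_vecMul]
    have e1 : f ᵥ* T.1 = f := by rw [hT, tv_apply]; simp [hfp]
    have e2 : y ᵥ* T.1 = y := by rw [hT, tv_apply]; simp [hyp]
    have e3 : u ᵥ* T⁻¹.1 = u + y := by rw [hT, tv_inv_apply]; simp [hup]
    rw [e1, hu', e3, ← hy, e2, hT, tv_inv_apply]
    simp only [dotProduct_neg, neg_smul, sub_neg_eq_add]
    intro hmem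
    obtain ⟨s, t, hst⟩ := Submodule.mem_span_pair.mp hmem
    obtain ⟨s', t', hst'⟩ := Submodule.mem_span_pair.mp h1
    have hyAp : (y ᵥ* A.1) ⬝ᵥ p = 0 := by rw [← hyA]; simp [hfp, hyp]
    have h2 := congrArg (fun v => v ⬝ᵥ p) hst
    simp only [add_dotProduct, sub_dotProduct, smul_dotProduct, smul_eq_mul, hup, hfp, hyp,
      add_vecMul, hyAp] at h2
    have hmem' : (c₀ - (u ᵥ* A.1) ⬝ᵥ p) • y ∈ P := by
      refine Submodule.mem_span_pair.mpr ⟨s - s' - a, t - t', ?_⟩
      have h2' : t = (u ᵥ* A.1) ⬝ᵥ p - (y ᵥ* B'.1) ⬝ᵥ p := by linear_combination h2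
      rw [add_vecMul] at hst
      linear_combination (norm := module) hst - hst' - hyA - congrArg (fun r : F => r • y) h2'
    exact hyP (by
      simpa [inv_smul_smul₀ (sub_ne_zero.mpr (Ne.symm hne))] using
        P.smul_mem (c₀ - (u ᵥ* A.1) ⬝ᵥ p)⁻¹ hmem')
  obtain ⟨p₀, hp₀, hp₀u⟩ := exists_col P₀ hu
  have hfp₀ : f ⬝ᵥ p₀ = 0 := hp₀ f (Submodule.subset_span (by simp))
  have hyp₀ : y ⬝ᵥ p₀ = 0 := hp₀ y (Submodule.subset_span (by simp))
  set z := u ᵥ* A.1 - c₀ • u with hz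
  have hzmem : z ∈ Submodule.span F ({f, y, u} : Set (Fin d → F)) := by
    by_contra hh
    obtain ⟨p₁, hp₁, hp₁z⟩ := exists_col _ hh
    have h0 := key p₀ hfp₀ hyp₀ hp₀u
    have h1' : u ⬝ᵥ p₁ = 0 := hp₁ u (Submodule.subset_span (by simp))
    have := key (p₀ + p₁)
      (by rw [dotProduct_add, hfp₀, hp₁ f (Submodule.subset_span (by simp)), add_zero])
      (by rw [dotProduct_add, hyp₀, hp₁ y (Submodule.subset_span (by simp)), add_zero])
      (by rw [dotProduct_add, hp₀u, h1', add_zero])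
    rw [dotProduct_add, h0] at this
    rw [hz, sub_dotProduct, smul_dotProduct, h1', smul_zero, sub_zero] at hp₁z
    rw [hp₁z] at this
    simp at this
  obtain ⟨α, w, hw, hzw⟩ := Submodule.mem_span_insert.mp hzmem
  obtain ⟨β, γ, rfl⟩ := Submodule.mem_span_pair.mp hw
  have hγ : γ = 0 := by
    have := congrArg (fun v => v ⬝ᵥ p₀) hzw
    simp [hz, sub_dotProduct, add_dotProduct, smul_dotProduct, hfp₀, hyp₀, hp₀u,
      key p₀ hfp₀ hyp₀ hp₀u] at this
    exact this.symm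
  subst hγ
  have hzP : z ∈ P₀ := Submodule.mem_span_pair.mpr ⟨α, β, hzw.trans (by rw [zero_smul, add_zero]) |>.symm⟩
  -- `A² = c₀ A + a` on every row
  have hdet : A.1.det ≠ 0 := by rw [A.2]; exact one_ne_zero
  have ha : a ≠ 0 := by
    intro ha
    have hinj : Function.Injective fun v : Fin d → F => v ᵥ* A.1 :=
      vecMul_injective_iff_isUnit.mpr ((isUnit_iff_isUnit_det _).mpr (isUnit_iff_ne_zero.mpr hdet))
    have : y = c₀ • f := hinj (by
      show y ᵥ* A.1 = (c₀ • f) ᵥ* A.1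
      rw [← hyA, ha, smul_vecMul, zero_smul, zero_add])
    exact (LinearIndependent.pair_iff' hf0).mp hf c₀ this.symm
  -- an eigenrow for `c₀` outside `P₀`, added to `f`, violates the quadratic condition
  have hzz : u ᵥ* A.1 = c₀ • u + (α • f + β • y) := by
    linear_combination (norm := module) hzw
  set t₁ := (-α - β * c₀) / a with ht₁
  obtain ⟨u', hu'def⟩ : ∃ u', u' = u + (-β) • f + t₁ • y := ⟨_, rfl⟩
  have hu'P : u' ∉ P₀ := fun h => hu (by
    have := P₀.sub_mem h (Submodule.mem_span_pair.mpr ⟨-β, t₁, rfl⟩)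
    rwa [hu'def, add_assoc, add_sub_cancel_right] at this)
  have ht1 : t₁ * a = -α - β * c₀ := by rw [ht₁, div_mul_cancel₀ _ ha]
  have hu'A : u' ᵥ* A.1 = c₀ • u' := by
    rw [hu'def, add_vecMul, add_vecMul, smul_vecMul, smul_vecMul, hzz, ← hyA, ← hy]
    linear_combination (norm := module) (congrArg (fun r : F => r • f) ht1)
  obtain ⟨s, t, hst⟩ := Submodule.mem_span_pair.mp (hq (f + u'))
  rw [add_vecMul, ← hy, add_vecMul, hu'A, ← hyA, smul_vecMul, hu'A] at hst
  have hrel : ((s - a) + (0 : F)) • f + (t - c₀) • y + (s + t * c₀ - c₀ * c₀) • u' = 0 := by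
    linear_combination (norm := module) hst
  have h3 : s + t * c₀ - c₀ * c₀ = 0 := by
    by_contra hne
    refine hu'P ?_
    have h : (s + t * c₀ - c₀ * c₀) • u' = (-((s - a) + 0)) • f + (-(t - c₀)) • y := by
      linear_combination (norm := module) hrel
    have := P₀.smul_mem (s + t * c₀ - c₀ * c₀)⁻¹ (Submodule.mem_span_pair.mpr ⟨_, _, h.symm⟩)
    rwa [inv_smul_smul₀ hne] at this
  rw [h3, zero_smul, add_zero] at hrel
  obtain ⟨h4, h5⟩ := LinearIndependent.pair_iff.mp hf _ _ hrel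
  exact ha (by linear_combination -h4 + h3 - c₀ * h5)

end CfsgLib.TraceClass
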